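import Cfsg.Agent.ChevGrp.Order

set_option autoImplicit false
set_option maxRecDepth 100000

/-!
The Weyl system of the dihedral group of order 16.
-/

namespace Cfsg.Agent.Tw4

open Cfsg.Agent.ChevGrp Cfsg.Agent.ChevWeyl

/-- positive roots -/
def pos16 (r : Fin 16) : Prop := (r : ℕ) < 8

instance : DecidablePred pos16 := fun _ => Nat.decLt _ _

/-- opposite roots -/
def neg16 (r : Fin 16) : Fin 16 := ⟨((r : ℕ) + 8) % 16, Nat.mod_lt _ (by norm_num)⟩

/-- simple roots -/
def p16 (i : Fin 2) : Fin 16 := match i with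
  | 0 => 0
  | 1 => 7

/-- tables of the simple reflections -/
def t16 (i : Fin 2) (r : Fin 16) : Fin 16 := match i with
  | 0 => ⟨(24 - (r : ℕ)) % 16, Nat.mod_lt _ (by norm_num)⟩
  | 1 => ⟨(22 - (r : ℕ)) % 16, Nat.mod_lt _ (by norm_num)⟩

theorem t16_t16 : ∀ i : Fin 2, ∀ r : Fin 16, t16 i (t16 i r) = r := by decide +kernel

/-- the simple reflections -/
def w16 (i : Fin 2) : Equiv.Perm (Fin 16) := ⟨t16 i, t16 i, t16_t16 i, t16_t16 i⟩

/-- product of a word -/
def wd16 (L : List (Fin 2)) : Equiv.Perm (Fin 16) := (L.map w16).prod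

/-- reduced words -/
def red16 : Equiv.Perm (Fin 16) → List (Fin 2) → Bool
  | _, [] => true
  | u, j :: L => decide (pos16 (u (p16 j))) && red16 (u * w16 j) L

/-- the elements -/
def word16 (k : Fin 16) : List (Fin 2) :=
  (![[], [0], [1], [0, 1], [1, 0], [0, 1, 0], [1, 0, 1], [0, 1, 0, 1], [1, 0, 1, 0], [0, 1, 0, 1, 0],
    [1, 0, 1, 0, 1], [0, 1, 0, 1, 0, 1], [1, 0, 1, 0, 1, 0], [0, 1, 0, 1, 0, 1, 0], [1, 0, 1, 0, 1, 0, 1],
    [0, 1, 0, 1, 0, 1, 0, 1]] : Fin 16 → List (Fin 2)) k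

/-- the elements -/
def el16 (k : Fin 16) : Equiv.Perm (Fin 16) := wd16 (word16 k)

/-- length -/
def N16 (u : Equiv.Perm (Fin 16)) : ℕ := (Finset.univ.filter fun r => pos16 r ∧ ¬ pos16 (u r)).card

theorem red_word16 : ∀ k, red16 1 (word16 k) = true := by decide +kernel
theorem inj_word16 : ∀ k k', el16 k = el16 k' → k = k' := by decide +kernel
theorem mul_word16 : ∀ i : Fin 2, ∀ k, ∃ k', w16 i * el16 k = el16 k' := by decide +kernel
theorem long_word16 : ∀ r : Fin 16, pos16 r → ¬ pos16 (el16 15 r) := by decide +kernel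
theorem conj_w16 : ∀ k : Fin 16, ∀ i j : Fin 2, el16 k (p16 i) = p16 j → el16 k * w16 i * (el16 k)⁻¹ = w16 j := by
  decide +kernel
theorem descent16 : ∀ k : Fin 16, el16 k ≠ 1 → ∃ j, ¬ pos16 (el16 k (p16 j)) := by decide +kernel
theorem N16_pos : ∀ k : Fin 16, ∀ j, pos16 (el16 k (p16 j)) → N16 (el16 k * w16 j) = N16 (el16 k) + 1 := by
  decide +kernel
theorem longest16 : ∀ k : Fin 16, (∀ j, ¬ pos16 (el16 k (p16 j))) → ∀ r, pos16 r → ¬ pos16 (el16 k r) := by
  decide +kernel

theorem mem_closure16 {u : Equiv.Perm (Fin 16)} (hu : u ∈ Subgroup.closure (Set.range w16)) : ∃ k, el16 k = u := by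
  have hinv : ∀ i, (w16 i)⁻¹ = w16 i := by decide +kernel
  induction hu using Subgroup.closure_induction_left with
  | one => exact ⟨0, rfl⟩
  | mul_left x hx y hy ih =>
    obtain ⟨i, rfl⟩ := hx
    obtain ⟨k, rfl⟩ := ih
    obtain ⟨k', h⟩ := mul_word16 i k
    exact ⟨k', h.symm⟩
  | inv_mul_cancel x hx y hy ih =>
    obtain ⟨i, rfl⟩ := hx
    obtain ⟨k, rfl⟩ := ih
    obtain ⟨k', h⟩ := mul_word16 i k
    exact ⟨k', by rw [hinv, h]⟩

/-- the Weyl system of type I2(8) -/
def S16 : WSys 2 16 where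
  Pos := pos16
  p := p16
  neg := neg16
  w := w16
  N := N16
  neg_neg := by decide +kernel
  pos_neg_iff := by decide +kernel
  pos_p := by decide +kernel
  p_inj := by
    have : ∀ i j, p16 i = p16 j → i = j := by decide +kernel
    exact fun i j h => this i j h
  w_mul_w := by decide +kernel
  w_p := by decide +kernel
  w_neg := by decide +kernel
  pos_w := by decide +kernel
  conj_w := by
    intro u hu j k h
    obtain ⟨e, rfl⟩ := mem_closure16 hu
    exact conj_w16 e j k h
  descent := by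
    intro u hu h
    obtain ⟨e, rfl⟩ := mem_closure16 hu
    exact descent16 e h
  N_one := by decide +kernel
  N_pos := by
    intro u hu j h
    obtain ⟨e, rfl⟩ := mem_closure16 hu
    exact N16_pos e j h
  longest := by
    intro u hu h r hr
    obtain ⟨e, rfl⟩ := mem_closure16 hu
    exact longest16 e h r hr

theorem S16_w (i : Fin 2) : S16.w i = w16 i := rfl
theorem S16_p (i : Fin 2) : S16.p i = p16 i := rfl
theorem S16_pos (r : Fin 16) : S16.Pos r ↔ (r : ℕ) < 8 := Iff.rfl

theorem S16_wd (L : List (Fin 2)) : S16.wd L = wd16 L := rfl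

theorem el16_mem (k : Fin 16) : el16 k ∈ S16.W := S16.wd_mem (word16 k)

theorem mem_W16 {u : Equiv.Perm (Fin 16)} (hu : u ∈ S16.W) : ∃ k, el16 k = u := mem_closure16 hu

theorem conn16 : S16.w 0 * S16.w 1 ≠ S16.w 1 * S16.w 0 := by
  have : w16 0 * w16 1 ≠ w16 1 * w16 0 := by decide +kernel
  exact this

section S

variable {G : Type*} [Group G] (R : RGrp S16 G)

theorem U_eq_Um16 {u : Equiv.Perm (Fin 16)} (h : ∀ r, S16.Pos r → ¬ S16.Pos (u r)) : R.Um u = R.U := by
  apply le_antisymm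
  · exact gen_mono fun _ h => h.1
  · exact gen_mono fun r hr => ⟨hr, h r hr⟩

theorem card_Um_word16 {u : Equiv.Perm (Fin 16)} (hu : u ∈ S16.W) (L : List (Fin 2)) (h : red16 u L = true) :
    Nat.card (R.Um (u * wd16 L)) = Nat.card (R.Um u) * (L.map fun j => Nat.card (R.X (S16.p j))).prod := by
  induction L generalizing u with
  | nil =>
    have e : u * wd16 [] = u := mul_one u
    rw [e]; simp
  | cons j L ih =>
    unfold red16 at h
    rw [Bool.and_eq_true, decide_eq_true_iff] at h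
    have hw : w16 j ∈ S16.W := S16.w_mem j
    have e : u * wd16 (j :: L) = (u * w16 j) * wd16 L := by
      unfold wd16
      rw [List.map_cons, List.prod_cons, mul_assoc]
    have h1 : S16.Pos (u (S16.p j)) := h.1
    have h2 : Nat.card (R.Um (u * w16 j)) = Nat.card (R.Um u) * Nat.card (R.X (S16.p j)) :=
      RGrp.card_Um_mul hu h1
    rw [e, ih (mul_mem hu hw) h.2, h2, List.map_cons, List.prod_cons, mul_assoc]

theorem card_Um_word16' {x y : ℕ} (hx : Nat.card (R.X (S16.p 0)) = x) (hy : Nat.card (R.X (S16.p 1)) = y) (k : Fin 16) :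
    Nat.card (R.Um (wd16 (word16 k))) = ((word16 k).map fun j : Fin 2 => if j = 0 then x else y).prod := by
  have h1 := card_Um_word16 R (one_mem _) (word16 k) (red_word16 k)
  rw [one_mul] at h1
  rw [h1, RGrp.Um_one, Subgroup.card_bot, one_mul]
  congr 1
  refine List.map_congr_left fun j _ => ?_
  have : j = 0 ∨ j = 1 := by
    have : ∀ j : Fin 2, j = 0 ∨ j = 1 := by decide
    exact this j
  rcases this with rfl | rfl
  · rw [if_pos rfl, ← hx]
  · rw [if_neg (by decide), ← hy]

theorem card_U16 {x y : ℕ} (hx : Nat.card (R.X (S16.p 0)) = x) (hy : Nat.card (R.X (S16.p 1)) = y) :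
    Nat.card R.U = x ^ 4 * y ^ 4 := by
  have h1 := card_Um_word16' R hx hy 15
  have h3 : R.Um (wd16 (word16 15)) = R.U := U_eq_Um16 R fun r hr h => long_word16 r hr h
  rw [h3] at h1
  rw [h1]
  simp [word16]; ring

theorem sum16 (x y : ℕ) : ∑ k : Fin 16, ((word16 k).map fun j : Fin 2 => if j = 0 then x else y).prod =
    (1 + x) * (1 + y) * (1 + x * y + (x * y) ^ 2 + (x * y) ^ 3) := by
  have h : ∀ f : Fin 16 → ℕ, ∑ k, f k = f 0 + (f 1 + (f 2 + (f 3 + (f 4 + (f 5 + (f 6 + (f 7 + (f 8 + (f 9 + (f 10 +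
      (f 11 + (f 12 + (f 13 + (f 14 + (f 15 + 0))))))))))))))) := by
    intro f
    rw [← List.sum_ofFn]
    rfl
  rw [h]
  have e : ∀ L : List (Fin 2), (L.map fun j : Fin 2 => if j = 0 then x else y).prod =
      L.foldr (fun j z => (if j = 0 then x else y) * z) 1 := by
    intro L
    induction L with
    | nil => rfl
    | cons a L ih => rw [List.map_cons, List.prod_cons, ih]; rfl
  simp only [e]
  change 1 + (x * 1 + (y * 1 + (x * (y * 1) + (y * (x * 1) + (x * (y * (x * 1)) + (y * (x * (y * 1)) +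
    (x * (y * (x * (y * 1))) + (y * (x * (y * (x * 1))) + (x * (y * (x * (y * (x * 1)))) +
    (y * (x * (y * (x * (y * 1)))) + (x * (y * (x * (y * (x * (y * 1))))) + (y * (x * (y * (x * (y * (x * 1))))) +
    (x * (y * (x * (y * (x * (y * (x * 1)))))) + (y * (x * (y * (x * (y * (x * (y * 1)))))) +
    (x * (y * (x * (y * (x * (y * (x * (y * 1))))))) + 0))))))))))))))) = _
  ring

theorem card_Grp16 [Finite R.Grp] {x y : ℕ} (hx : Nat.card (R.X (S16.p 0)) = x)
    (hy : Nat.card (R.X (S16.p 1)) = y) :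
    Nat.card R.Grp = x ^ 4 * y ^ 4 * Nat.card R.H * ((1 + x) * (1 + y) * (1 + x * y + (x * y) ^ 2 + (x * y) ^ 3)) := by
  rw [RGrp.card_Grp, RGrp.card_B, card_U16 R hx hy]
  congr 1
  have hb : Function.Bijective (fun k : Fin 16 => (⟨el16 k, el16_mem k⟩ : S16.W)) := by
    constructor
    · intro k k' h
      exact inj_word16 k k' (congrArg Subtype.val h)
    · rintro ⟨u, hu⟩
      obtain ⟨k, hk⟩ := mem_W16 hu
      exact ⟨k, Subtype.ext hk⟩
  rw [← finsum_comp_equiv (Equiv.ofBijective _ hb), finsum_eq_sum_of_fintype]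
  have h4 : ∑ k : Fin 16, Nat.card (R.Um (Equiv.ofBijective (fun k : Fin 16 => (⟨el16 k, el16_mem k⟩ : S16.W)) hb k : S16.W)) =
      ∑ k : Fin 16, ((word16 k).map fun j : Fin 2 => if j = 0 then x else y).prod :=
    Finset.sum_congr rfl fun k _ => card_Um_word16' R hx hy k
  exact h4.trans (sum16 x y)

end S

section dihedral

/-- rotation or reflection of the root system -/
def fDt : DihedralGroup 8 → Fin 16 → Fin 16
  | .r i, k => ⟨((k : ℕ) + 2 * i.val) % 16, Nat.mod_lt _ (by norm_num)⟩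
  | .sr i, k => ⟨(8 + 16 + 16 - (k : ℕ) - 2 * i.val) % 16, Nat.mod_lt _ (by norm_num)⟩

theorem fDt_mul : ∀ a b : DihedralGroup 8, ∀ k, fDt (a * b) k = fDt a (fDt b k) := by decide +kernel
theorem fDt_one : ∀ k, fDt 1 k = k := by decide +kernel
theorem fDt_inj : ∀ a b : DihedralGroup 8, (∀ k, fDt a k = fDt b k) → a = b := by decide +kernel
theorem fDt_word : ∀ k : Fin 16, ∃ a : DihedralGroup 8, ∀ r, el16 k r = fDt a r := by decide +kernel
theorem word_fDt : ∀ a : DihedralGroup 8, ∃ k : Fin 16, ∀ r, el16 k r = fDt a r := by decide +kernel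

/-- the dihedral group of order 16 as permutations -/
def fD : DihedralGroup 8 →* Equiv.Perm (Fin 16) where
  toFun a := ⟨fDt a, fDt a⁻¹, fun k => by rw [← fDt_mul, inv_mul_cancel, fDt_one],
    fun k => by rw [← fDt_mul, mul_inv_cancel, fDt_one]⟩
  map_one' := Equiv.ext fun k => fDt_one k
  map_mul' a b := Equiv.ext fun k => fDt_mul a b k

theorem fD_inj : Function.Injective fD := fun a b h => fDt_inj a b fun k => congrArg (fun u : Equiv.Perm (Fin 16) => u k) h

theorem fD_range : fD.range = S16.W := by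
  ext u
  constructor
  · rintro ⟨a, rfl⟩
    obtain ⟨k, hk⟩ := word_fDt a
    have : fD a = el16 k := Equiv.ext fun r => (hk r).symm
    rw [this]; exact el16_mem k
  · intro hu
    obtain ⟨k, rfl⟩ := mem_W16 hu
    obtain ⟨a, ha⟩ := fDt_word k
    exact ⟨a, Equiv.ext fun r => (ha r).symm⟩

/-- the Weyl group is the dihedral group of order 16 -/
noncomputable def eqD : DihedralGroup 8 ≃* S16.W :=
  (MonoidHom.ofInjective fD_inj).trans (MulEquiv.subgroupCongr fD_range)

theorem nquot16 {G : Type*} [Group G] (R : RGrp S16 G) : ∃ φ : ↥R.N →* DihedralGroup 8, Function.Surjective φ ∧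
    φ.ker = R.H.subgroupOf R.N := by
  have hr : R.nuHom.range = S16.W := RGrp.nuHom_range
  let f : ↥R.N →* S16.W := (MulEquiv.subgroupCongr hr).toMonoidHom.comp R.nuHom.rangeRestrict
  have hf : ∀ g, ((f g : S16.W) : Equiv.Perm (Fin 16)) = R.nuHom g := fun g => rfl
  refine ⟨eqD.symm.toMonoidHom.comp f, ?_, ?_⟩
  · refine eqD.symm.surjective.comp ((MulEquiv.subgroupCongr hr).surjective.comp ?_)
    exact R.nuHom.rangeRestrict_surjective
  · have h1 : (eqD.symm.toMonoidHom.comp f).ker = R.nuHom.ker := by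
      ext g
      rw [MonoidHom.mem_ker, MonoidHom.mem_ker]
      constructor
      · intro h
        have h2 : f g = 1 := eqD.symm.injective (h.trans (map_one eqD.symm).symm)
        rw [← hf, h2]; rfl
      · intro h
        have h2 : f g = 1 := Subtype.ext ((hf g).trans h)
        change eqD.symm (f g) = 1
        rw [h2, map_one]
    rw [h1, RGrp.nuHom_ker]

end dihedral

end Cfsg.Agent.Tw4
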