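import Cfsg.Agent.Chev.SpData
import Cfsg.Agent.ChevGrp.Grade
import Cfsg.Agent.Tw4.Weyl16
import Cfsg.Prelude.Def_LieTwisted

set_option autoImplicit false
set_option maxRecDepth 100000

/-!
Tables for the twisted groups of type F4.
-/

namespace Cfsg.Agent.Tw4

open Cfsg.Lie Cfsg.Agent.Chev Cfsg.Agent.ChevGrp Cfsg.Agent.ChevWeyl

/-- the class (a root of type I2(8)) of a root of type F4 -/
def clF4 : List ℕ := [11, 13, 12, 11, 10, 9, 11, 13, 12, 10, 14, 9, 13, 9, 8, 14, 13, 15, 11, 15, 15, 9, 15, 8, 0, 7, 1, 7, 7, 3, 7, 5, 6, 0, 1, 5, 1, 6, 2, 4, 5, 3, 1, 2, 3, 4, 5, 3]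

/-- the class as a function -/
def cF4 (r : ℕ) : ℕ := clF4.getD r 0

/-- the bar of a root -/
def bF4 (r : ℕ) : ℕ := barF4.getD r 0

/-- the exponent of a root -/
def lF4 (r : ℕ) : ℕ := lamF4.getD r 0

/-- the longest elements of the blocks -/
def jwF4 (j r : ℕ) : ℕ := match j with
  | 0 => chevF4.reflectRoot 0 (chevF4.reflectRoot 3 r)
  | _ => chevF4.reflectRoot 1 (chevF4.reflectRoot 2 (chevF4.reflectRoot 1 (chevF4.reflectRoot 2 r)))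

/-- the blocks of simple roots -/
def blF4 (j : ℕ) : List ℕ := match j with
  | 0 => [0, 3]
  | _ => [1, 2]

/-- the gradings -/
def grF4 (j k : ℕ) : ℤ := if k ∈ blF4 j then 0 else 1

/-- the simple roots of type I2(8) -/
def p16n (j : ℕ) : ℕ := match j with
  | 0 => 0
  | _ => 7

/-- the simple reflections of type I2(8) -/
def w16n (j r : ℕ) : ℕ := match j with
  | 0 => (24 - r) % 16
  | _ => (22 - r) % 16

theorem cF4_lt : ∀ r < 48, cF4 r < 16 := by decide +kernel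
theorem bF4_lt : ∀ r < 48, bF4 r < 48 := by decide +kernel
theorem bF4_bF4 : ∀ r < 48, bF4 (bF4 r) = r := by decide +kernel
theorem lF4_bF4 : ∀ r < 48, lF4 (bF4 r) * lF4 r = 2 := by decide +kernel
theorem pos_F4 : ∀ r < 48, (chevF4.IsPosRoot r ↔ 24 ≤ r) := by decide +kernel
theorem cF4_pos : ∀ r < 48, (24 ≤ r ↔ cF4 r < 8) := by decide +kernel
theorem cF4_bar : ∀ r < 48, cF4 (bF4 r) = cF4 r := by decide +kernel
theorem cF4_neg : ∀ r < 48, cF4 (chevF4.neg r) = (cF4 r + 8) % 16 := by decide +kernel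
theorem cF4_jw : ∀ j < 2, ∀ r < 48, cF4 (jwF4 j r) = w16n j (cF4 r) := by decide +kernel
theorem jwF4_simple : ∀ j < 2, ∀ i ∈ blF4 j, jwF4 j (chevF4.simple i) = chevF4.neg (chevF4.simple i) := by
  decide +kernel
theorem bF4_simple : ∀ i < 4, bF4 (chevF4.simple i) = chevF4.simple (3 - i) ∧
    bF4 (chevF4.neg (chevF4.simple i)) = chevF4.neg (chevF4.simple (3 - i)) ∧
    lF4 (chevF4.neg (chevF4.simple i)) = lF4 (chevF4.simple i) := by decide +kernel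
theorem lF4_simple : lF4 (chevF4.simple 0) = 2 ∧ lF4 (chevF4.simple 1) = 2 ∧ lF4 (chevF4.simple 2) = 1 ∧
    lF4 (chevF4.simple 3) = 1 := by decide +kernel
theorem cF4_simple : ∀ i < 4, ∀ j < 2, (cF4 (chevF4.simple i) = p16n j ↔ i ∈ blF4 j) := by
  decide +kernel
theorem simple_F4 : chevF4.simple 0 = 33 ∧ chevF4.simple 1 = 27 ∧ chevF4.simple 2 = 25 ∧ chevF4.simple 3 = 24 ∧
    chevF4.neg 33 = 14 ∧ chevF4.neg 27 = 20 ∧ chevF4.neg 25 = 22 ∧ chevF4.neg 24 = 23 ∧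
    chevF4.neg 28 = 19 ∧ chevF4.neg 30 = 17 := by decide +kernel
theorem cF4_p0 : ∀ r < 48, (cF4 r = 0 ↔ r = 33 ∨ r = 24) := by decide +kernel
theorem cF4_n0 : ∀ r < 48, (cF4 r = 8 ↔ r = 14 ∨ r = 23) := by decide +kernel
theorem cF4_p1 : ∀ r < 48, (cF4 r = 7 ↔ r = 27 ∨ r = 25 ∨ r = 28 ∨ r = 30) := by decide +kernel
theorem cF4_n1 : ∀ r < 48, (cF4 r = 15 ↔ r = 20 ∨ r = 22 ∨ r = 19 ∨ r = 17) := by decide +kernel
theorem bar_vals : bF4 33 = 24 ∧ bF4 24 = 33 ∧ bF4 14 = 23 ∧ bF4 23 = 14 ∧ bF4 27 = 25 ∧ bF4 25 = 27 ∧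
    bF4 28 = 30 ∧ bF4 30 = 28 ∧ bF4 20 = 22 ∧ bF4 22 = 20 ∧ bF4 19 = 17 ∧ bF4 17 = 19 := by decide +kernel
theorem lam_vals : lF4 33 = 2 ∧ lF4 24 = 1 ∧ lF4 14 = 2 ∧ lF4 23 = 1 ∧ lF4 27 = 2 ∧ lF4 25 = 1 ∧
    lF4 28 = 2 ∧ lF4 30 = 1 ∧ lF4 20 = 2 ∧ lF4 22 = 1 ∧ lF4 19 = 2 ∧ lF4 17 = 1 := by decide +kernel
theorem gr_F4 : ∀ j < 2, ∀ s < 48, ((24 ≤ s ∧ cF4 s ≠ p16n j) ↔ 0 < Grade.fn chevF4 (grF4 j) s) := by
  decide +kernel
theorem gr_F4' : ∀ j < 2, ∀ s < 48, (cF4 s = p16n j ∨ cF4 s = (p16n j + 8) % 16) →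
    Grade.fn chevF4 (grF4 j) s = 0 := by decide +kernel

end Cfsg.Agent.Tw4
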